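import Cfsg.Agent.H930.FC.Crd

/-!
# `F₄`: the classes of the elements of `V` outside of the second layer (S2464, `F₄(q)`)

`V` the unipotent radical of the parabolic `P` of type `B₃`.  `spin` : the class under `P` of `u ∈ V`, not in the
second layer, has at least `(q - 1) q⁶` elements.
-/

set_option autoImplicit false
set_option linter.unusedSectionVars false

namespace Cfsg.Agent.H930.FC

open CoxeterSystem Cfsg.Agent.ChevalleyStructure.CoxeterGeom Cfsg.Agent.Tits.Roots Cfsg.Agent.Tits.Core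
  Cfsg.Agent.Tits.Exchange Cfsg.Agent.Nodes.Reps Cfsg.Agent.Nodes.BNOf Cfsg.Agent.Nodes.StabComb
  Cfsg.Agent.Nodes.Bruhat Cfsg.Agent.Nodes.OppDec Cfsg.Agent.Nodes.LeviDec Cfsg.Agent.Nodes.NormX
  Cfsg.Agent.Nodes.Coroot Cfsg.Agent.Nodes.RGDChev Cfsg.Agent.KFacts.RgdPar Cfsg.Agent.KFacts.RgdTI
  Cfsg.Agent.KFacts.RgdCent Cfsg.Agent.KFacts.RgdChevCoord Cfsg.Agent.Nodes.ChevCls
  Cfsg.Agent.OddHalf.NI.ModelChev Cfsg.Agent.H225.PPow
open Cfsg.Lie Cfsg.Agent.ChevalleyStructure Cfsg.Agent.ChevalleyStructure.Elts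
  Cfsg.Agent.ChevalleyStructure.RootVec Cfsg.Agent.ChevalleyStructure.NPerm
  Cfsg.Agent.ChevalleyStructure.CoxeterGeomTypes
open Cfsg.Agent.H701.F43.Cent (hF cF)
open Cfsg.Agent.H520.FC

universe u

variable {K : Type u} [Field K]

/-- `V` -/
abbrev Vq (K : Type u) [Field K] : Subgroup ↥(chevF4.group K) := Q K {r | r ∈ IV}

/-! ### elements of `P` -/

theorem xr_mem_PK {r : ℕ} (hr : r ∈ IM) (a : K) : (xr r a : ↥(chevF4.group K)) ∈ PK K J0 := by
  refine LJ_le_PJ (X_le_LJ ?_ (xr_mem (lt_IM r hr) a))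
  exact mem_RootsJ0.2 ⟨(isRoot_iff hF cF _).2 ⟨r, lt_IM r hr, rfl⟩, (tabM r (lt_IM r hr)).2 hr⟩

variable [Finite K]

theorem nc_mem_PK {i : Fin 4} (hi : i ≠ 0) : nc hF K i ∈ PK K J0 := by
  obtain ⟨p, hpc⟩ := CharP.exists K
  have : Fact p.Prime := ⟨CharP.char_is_prime K p⟩
  exact LJ_le_PJ (n_mem_LJ (rgd (K := K) hF cF p) (J := J0) hi)

theorem T_le_PK : TT chevF4 K ≤ PK K J0 := le_trans T_le_LJ LJ_le_PJ

theorem conj_V {g v : ↥(chevF4.group K)} (hg : g ∈ PK K J0) (hv : v ∈ Vq K) : g * v * g⁻¹ ∈ Vq K := by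
  obtain ⟨p, hpc⟩ := CharP.exists K
  have : Fact p.Prime := ⟨CharP.char_is_prime K p⟩
  have h1 := PJ_le_normalizer_VJ (rgd (K := K) hF cF p) J0 hg
  have h2 := (Subgroup.mem_normalizer_iff.1 h1 v).1
  have e : (VJ cF hF.isCartan (XX chevF4 4 K) J0 : Subgroup ↥(chevF4.group K)) = Vq K := VK_eq
  have h3 : ∀ w : ↥(chevF4.group K), w ∈ VJ cF hF.isCartan (XX chevF4 4 K) J0 ↔ w ∈ Vq K := fun w => by rw [e]
  exact (h3 _).1 (h2 ((h3 _).2 hv))

/-! ### the coordinates after conjugation -/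

theorem cf_refl {i : Fin 4} (hi : i ≠ 0) {β : ℕ} (hβ : β ∈ I1) {u : ↥(chevF4.group K)} (hu : u ∈ Vq K)
    (h : cf β u ≠ 0) : cf (chevF4.reflectRoot i β) (nc hF K i * u * (nc hF K i)⁻¹) ≠ 0 := by
  obtain ⟨v, hv, e⟩ := cf_spec hβ hu
  obtain ⟨c, hc0, hc⟩ := refl_xr (K := K) (i := i) (lt_IV _ (I1_sub β hβ))
  have e2 : nc hF K i * u * (nc hF K i)⁻¹ =
      xr (chevF4.reflectRoot i β) (c * cf β u) * (nc hF K i * v * (nc hF K i)⁻¹) := by
    rw [← hc]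
    nth_rw 1 [e]
    group
  rw [e2, cf_eq (tabR1 i hi β hβ) _ (refl_Nb hi (I1_sub β hβ) hv)]
  exact mul_ne_zero hc0 h

/-- a nonzero coordinate can be moved to `33` -/
theorem move : ∀ β ∈ I1, ∀ u ∈ Vq K, cf β u ≠ 0 → ∃ g ∈ PK K J0, cf 33 (g * u * g⁻¹) ≠ 0 := by
  refine reach ?_ ?_
  · intro u _ h
    exact ⟨1, one_mem _, by rwa [one_mul, inv_one, mul_one]⟩
  · intro i hi r hr ih u hu h
    have h1 := cf_refl hi (tabR1 i hi r hr) hu h
    rw [tabR2 i hi r (I1_sub r hr)] at h1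
    obtain ⟨g, hg, h2⟩ := ih _ (conj_V (nc_mem_PK hi) hu) h1
    refine ⟨g * nc hF K i, mul_mem hg (nc_mem_PK hi), ?_⟩
    have e : g * nc hF K i * u * (g * nc hF K i)⁻¹ = g * (nc hF K i * u * (nc hF K i)⁻¹) * g⁻¹ := by group
    rwa [e]

/-- the torus -/
theorem cf_torus {b : K} (hb : b ≠ 0) {u : ↥(chevF4.group K)} (hu : u ∈ Vq K) :
    cf 33 (hc hF 1 b * u * (hc hF 1 b)⁻¹) = b⁻¹ * cf 33 u := by
  have h33 : 33 ∈ I1 := by decide
  obtain ⟨v, hv, e⟩ := cf_spec h33 hu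
  have ht : hc hF 1 b ∈ TT chevF4 K := hc_mem hF 1 hb
  have h1 : ∀ r ∈ IV, ∀ a : K, hc hF 1 b * xr r a * (hc hF 1 b)⁻¹ = xr r (ch hF (vec chevF4 4 r) (hc hF 1 b) * a) :=
    fun r hr a => (act hF (lt_IV r hr) ht).2 a
  have h2 : hc hF 1 b * v * (hc hF 1 b)⁻¹ ∈ Q K (Nb 33) := by
    refine conj_Q (fun r hr a => ?_) hv
    rw [h1 r hr.1]
    exact mem_Q hr _
  have e2 : hc hF 1 b * u * (hc hF 1 b)⁻¹ = xr 33 (b⁻¹ * cf 33 u) * (hc hF 1 b * v * (hc hF 1 b)⁻¹) := by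
    have h3 := h1 33 (I1_sub 33 h33) (cf 33 u)
    rw [ch_hc hF 1 hb (lt_IV 33 (I1_sub 33 h33)), cart33, zpow_neg_one] at h3
    rw [← h3]
    nth_rw 1 [e]
    group
  rw [e2, cf_eq h33 _ h2]

theorem cf_wd {β : ℕ} (hβ : β ∈ I1) (a s : K) : ∀ l : List (ℕ × ℤ × ℕ × ℕ), (∀ c ∈ l, c.1 ∈ IV) →
    cf β (wd l a s : ↥(chevF4.group K)) =
      ((l.filter fun c => c.1 = β).map fun c => (c.2.1 : K) * a ^ c.2.2.1 * (-s) ^ c.2.2.2).sum := by
  intro l
  induction l with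
  | nil => intro _; exact cf_one hβ
  | cons c l ih =>
    intro hl
    have h1 : ∀ c ∈ l, c.1 ∈ IV := fun d hd => hl d (List.mem_cons_of_mem _ hd)
    have h2 : c.1 ∈ IV := hl c List.mem_cons_self
    rw [wd_cons, cf_mul hβ (mem_Q h2 _) (wd_mem h1 _ _), ih h1]
    by_cases h : c.1 = β
    · rw [List.filter_cons_of_pos (by simpa using h), List.map_cons, List.sum_cons]
      congr 1
      rw [h]
      exact cf_self hβ _
    · rw [List.filter_cons_of_neg (by simpa using h), cf_ne hβ h2 h, zero_add]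

/-- the action of `x_γ(s)` on the coordinates up to `γ + 7` -/
theorem cf_conj {γ β : ℕ} (hγ : γ ∈ G6) (hβ : β ∈ I1) (hle : β ≤ γ + 7) (s : K) {u : ↥(chevF4.group K)}
    (hu : u ∈ Vq K) : cf β (xr γ s * u * (xr γ s)⁻¹) = cf β u + (if β = γ + 7 then s * cf 33 u else 0) := by
  have h33 : 33 ∈ I1 := by decide
  have hP : (xr γ s : ↥(chevF4.group K)) ∈ PK K J0 := xr_mem_PK (G6_sub γ hγ) s
  have hu' : u ∈ Vq K := hu
  unfold Vq Q at hu
  induction hu using Subgroup.closure_induction with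
  | mem x hx =>
    obtain ⟨r, hr, a, rfl⟩ := hx
    have hr' : r ∈ IV := hr
    obtain ⟨n1, n2⟩ := neg_IM r hr' γ (G6_sub γ hγ)
    have h1 : ∀ c ∈ chevF4.commTerms r γ, c.1 ∈ IV := tabMV r hr' γ (G6_sub γ hγ)
    rw [conj_xr (lt_IV r hr') (lt_IM γ (G6_sub γ hγ)) n1 n2, cf_mul hβ (wd_mem h1 _ _) (mem_Q hr' _),
      cf_wd hβ _ _ _ h1, tabC γ hγ r hr' β hβ hle, add_comm]
    congr 1
    by_cases hb : β = γ + 7
    · rw [if_pos hb]
      by_cases h3 : r = 33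
      · rw [if_pos ⟨hb, h3⟩, h3, cf_self h33]
        simp [mul_comm]
      · rw [if_neg (fun h => h3 h.2), cf_ne h33 hr' h3]
        simp
    · rw [if_neg hb, if_neg (fun h => hb h.1)]
      simp
  | one =>
    rw [mul_one, mul_inv_cancel, cf_one hβ, cf_one h33]
    simp
  | mul x y hx hy ihx ihy =>
    have e : xr γ s * (x * y) * (xr γ s)⁻¹ = (xr γ s * x * (xr γ s)⁻¹) * (xr γ s * y * (xr γ s)⁻¹) := by group
    have hx' : x ∈ Vq K := hx
    have hy' : y ∈ Vq K := hy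
    rw [e, cf_mul hβ (conj_V hP hx') (conj_V hP hy'), ihx hx', ihy hy', cf_mul hβ hx' hy', cf_mul h33 hx' hy']
    split_ifs <;> ring
  | inv x hx ih =>
    have e : xr γ s * x⁻¹ * (xr γ s)⁻¹ = (xr γ s * x * (xr γ s)⁻¹)⁻¹ := by group
    have hx' : x ∈ Vq K := hx
    rw [e, cf_inv hβ (conj_V hP hx'), ih hx', cf_inv hβ hx', cf_inv h33 hx']
    split_ifs <;> ring

/-- the coordinates `34, ..` one after the other -/
theorem run (b : ℕ → K) : ∀ n ≤ 6, ∀ u ∈ Vq K, cf 33 u ≠ 0 → b 33 = cf 33 u →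
    ∃ g ∈ PK K J0, ∀ β, 33 ≤ β → β < 34 + n → cf β (g * u * g⁻¹) = b β := by
  intro n
  induction n with
  | zero =>
    intro _ u _ _ hb
    refine ⟨1, one_mem _, fun β h1 h2 => ?_⟩
    obtain rfl : β = 33 := by omega
    rw [one_mul, inv_one, mul_one, hb]
  | succ n ih =>
    intro hn u hu h0 hb
    obtain ⟨g, hg, h1⟩ := ih (by omega) u hu h0 hb
    have hγ : 27 + n ∈ G6 := by
      have : n ≤ 5 := by omega
      interval_cases n <;> decide
    have hI : ∀ β, 33 ≤ β → β < 41 → β ∈ I1 := by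
      intro β h2 h3
      interval_cases β <;> decide
    have hc : cf 33 (g * u * g⁻¹) ≠ 0 := by rw [h1 33 le_rfl (by omega), hb]; exact h0
    have hgu := conj_V hg hu
    set s : K := (b (34 + n) - cf (34 + n) (g * u * g⁻¹)) / cf 33 (g * u * g⁻¹) with hs
    refine ⟨xr (27 + n) s * g, mul_mem (xr_mem_PK (G6_sub _ hγ) s) hg, fun β h2 h3 => ?_⟩
    have e : xr (27 + n) s * g * u * (xr (27 + n) s * g)⁻¹ = xr (27 + n) s * (g * u * g⁻¹) * (xr (27 + n) s)⁻¹ := by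
      group
    rw [e, cf_conj hγ (hI β h2 (by omega)) (by omega) s hgu]
    by_cases h4 : β = 34 + n
    · rw [if_pos (by omega), hs, div_mul_cancel₀ _ hc, h4]
      ring
    · rw [if_neg (by omega), add_zero]
      exact h1 β h2 (by omega)

/-- all the coordinates -/
theorem run' (b : ℕ → K) (hb : b 33 ≠ 0) {u : ↥(chevF4.group K)} (hu : u ∈ Vq K) (h0 : cf 33 u ≠ 0) :
    ∃ g ∈ PK K J0, ∀ β, 33 ≤ β → β < 40 → cf β (g * u * g⁻¹) = b β := by
  have hl : cf 33 u / b 33 ≠ 0 := div_ne_zero h0 hb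
  have ht : hc hF 1 (cf 33 u / b 33) ∈ PK K J0 := T_le_PK (hc_mem hF 1 hl)
  have h1 : cf 33 (hc hF 1 (cf 33 u / b 33) * u * (hc hF 1 (cf 33 u / b 33))⁻¹) = b 33 := by
    rw [cf_torus hl hu, inv_div, div_mul_cancel₀ _ h0]
  obtain ⟨g, hg, h2⟩ := run b 6 le_rfl _ (conj_V ht hu) (by rw [h1]; exact hb) h1.symm
  refine ⟨g * hc hF 1 (cf 33 u / b 33), mul_mem hg ht, fun β h3 h4 => ?_⟩
  have e : g * hc hF 1 (cf 33 u / b 33) * u * (g * hc hF 1 (cf 33 u / b 33))⁻¹ =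
      g * (hc hF 1 (cf 33 u / b 33) * u * (hc hF 1 (cf 33 u / b 33))⁻¹) * g⁻¹ := by group
  rw [e]
  exact h2 β h3 (by omega)

theorem card_ne_zero (q : ℕ) (hq : Nat.card K = q) : Nat.card {a : K // a ≠ 0} = q - 1 := by
  classical
  have := Fintype.ofFinite K
  have h1 : Fintype.card {a : K // a ≠ 0} = Fintype.card K - 1 := by
    rw [Fintype.card_subtype_compl]
    simp
  rw [Nat.card_eq_fintype_card, h1, ← hq, Nat.card_eq_fintype_card]

theorem cls_finite (P : Subgroup ↥(chevF4.group K)) (u : ↥(chevF4.group K)) : Finite ↥(cls P u) := by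
  have : Finite ↥(chevF4.group K) := inferInstance
  infer_instance

/-- **The spin layer.** -/
theorem spin {u : ↥(chevF4.group K)} (hu : u ∈ VK K J0)
    (h : u ∉ RGD.Sup (XX chevF4 4 K) {x | x ∈ NotJ cF hF.isCartan {k | k ≠ 0} ∧ 2 ≤ x 0}) :
    (Nat.card K - 1) * Nat.card K ^ 6 ≤ Nat.card ↥(cls (PK K J0) u) := by
  rw [VK_eq] at hu
  rw [V2_eq] at h
  obtain ⟨β, hβ, h1⟩ : ∃ β ∈ I1, cf β u ≠ 0 := by
    by_contra hne
    push Not at hne
    exact h (mem_two hu hne)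
  obtain ⟨k, hk, h2⟩ := move β hβ u hu h1
  have hku := conj_V hk hu
  have key : ∀ f : {a : K // a ≠ 0} × (Fin 6 → K), ∃ x : ↥(cls (PK K J0) u),
      cf 33 (x : ↥(chevF4.group K)) = f.1 ∧ ∀ i : Fin 6, cf (34 + i) (x : ↥(chevF4.group K)) = f.2 i := by
    intro f
    let b : ℕ → K := fun n => if n = 33 then f.1 else if hn : n - 34 < 6 then f.2 ⟨n - 34, hn⟩ else 0
    have hb : b 33 = f.1 := if_pos rfl
    obtain ⟨g, hg, h3⟩ := run' b (by rw [hb]; exact f.1.2) hku h2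
    refine ⟨⟨g * k * u * (g * k)⁻¹, g * k, mul_mem hg hk, rfl⟩, ?_, fun i => ?_⟩
    · have e : g * k * u * (g * k)⁻¹ = g * (k * u * k⁻¹) * g⁻¹ := by group
      show cf 33 (g * k * u * (g * k)⁻¹) = _
      rw [e, h3 33 le_rfl (by omega), hb]
    · have e : g * k * u * (g * k)⁻¹ = g * (k * u * k⁻¹) * g⁻¹ := by group
      show cf (34 + i) (g * k * u * (g * k)⁻¹) = _
      have hi := i.2
      rw [e, h3 (34 + i) (by omega) (by omega)]
      show (if 34 + (i : ℕ) = 33 then (f.1 : K) else if hn : 34 + (i : ℕ) - 34 < 6 then f.2 ⟨34 + (i : ℕ) - 34, hn⟩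
        else 0) = _
      rw [if_neg (by omega), dif_pos (by omega)]
      refine congrArg f.2 (Fin.ext ?_)
      show 34 + (i : ℕ) - 34 = i
      omega
  choose F hF1 hF2 using key
  have hinj : Function.Injective F := by
    rintro ⟨a, v⟩ ⟨a', v'⟩ e
    have h3 := hF1 (a, v)
    have h4 := hF1 (a', v')
    rw [← e, h3] at h4
    have h5 : ∀ i : Fin 6, v i = v' i := by
      intro i
      have h6 := hF2 (a, v) i
      have h7 := hF2 (a', v') i
      rw [← e, h6] at h7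
      exact h7
    exact Prod.ext (Subtype.ext h4) (funext h5)
  have := cls_finite (PK K J0) u
  have h8 := Nat.card_le_card_of_injective F hinj
  rw [Nat.card_prod, card_ne_zero _ rfl, Nat.card_fun, Nat.card_fin] at h8
  exact h8

end Cfsg.Agent.H930.FC
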