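import Cfsg.Agent.H930.FC.Tab

/-!
# `F₄`: the coordinates of the unipotent radical of the parabolic of type `B₃` (S2464, `F₄(q)`)

* `xr r a` : the root element; `Q S` : generated by the root groups with numbers in `S`;
* `conj_xr` : the commutator formula; `cf r u` : the coordinate of `u ∈ V` at the root `r ∈ I1`.
-/

set_option autoImplicit false
set_option linter.unusedSectionVars false

namespace Cfsg.Agent.H930.FC

open CoxeterSystem Cfsg.Agent.ChevalleyStructure.CoxeterGeom Cfsg.Agent.Tits.Roots Cfsg.Agent.Tits.Core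
  Cfsg.Agent.Tits.Exchange Cfsg.Agent.Nodes.Reps Cfsg.Agent.Nodes.BNOf Cfsg.Agent.Nodes.StabComb
  Cfsg.Agent.Nodes.Bruhat Cfsg.Agent.Nodes.OppDec Cfsg.Agent.Nodes.LeviDec Cfsg.Agent.Nodes.NormX
  Cfsg.Agent.Nodes.Coroot Cfsg.Agent.Nodes.RGDChev Cfsg.Agent.KFacts.RgdPar Cfsg.Agent.KFacts.RgdTI
  Cfsg.Agent.KFacts.RgdCent Cfsg.Agent.KFacts.RgdChevCoord Cfsg.Agent.Nodes.ChevCls
  Cfsg.Agent.OddHalf.NI.ModelChev Cfsg.Agent.H225.PPow
open Cfsg.Lie Cfsg.Agent.ChevalleyStructure Cfsg.Agent.ChevalleyStructure.Elts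
  Cfsg.Agent.ChevalleyStructure.RootVec Cfsg.Agent.ChevalleyStructure.NPerm
  Cfsg.Agent.ChevalleyStructure.CoxeterGeomTypes
open Cfsg.Agent.H701.F43.Cent (hF cF)
open Cfsg.Agent.H520.FC
open scoped commutatorElement

universe u

variable {K : Type u} [Field K]

/-- the nodes of `B₃` -/
abbrev J0 : Set (Fin 4) := {k | k ≠ 0}

/-- the root element with number `r` -/
noncomputable def xr (r : ℕ) (a : K) : ↥(chevF4.group K) := xc hF (vec chevF4 4 r) a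

theorem coe_xr {r : ℕ} (hr : r < chevF4.nroots) (a : K) :
    ((xr r a : ↥(chevF4.group K)) : GL chevF4.Idx K) = xG hF.inList r a := coe_xc hF hr a

theorem xr_add {r : ℕ} (hr : r < chevF4.nroots) (a b : K) : xr r (a + b) = (xr r a * xr r b : ↥(chevF4.group K)) := by
  apply Subtype.ext
  rw [Subgroup.coe_mul, coe_xr hr, coe_xr hr, coe_xr hr, xG_add]

theorem xr_zero {r : ℕ} (hr : r < chevF4.nroots) : xr r (0 : K) = (1 : ↥(chevF4.group K)) := by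
  apply Subtype.ext
  rw [coe_xr hr, xG_zero]
  rfl

theorem xr_neg {r : ℕ} (hr : r < chevF4.nroots) (a : K) : xr r (-a) = ((xr r a)⁻¹ : ↥(chevF4.group K)) := by
  rw [eq_inv_iff_mul_eq_one, ← xr_add hr, neg_add_cancel, xr_zero hr]

theorem xr_inj {r : ℕ} (hr : r < chevF4.nroots) {a b : K} (h : (xr r a : ↥(chevF4.group K)) = xr r b) : a = b :=
  xc_inj hF hr h

theorem xr_mem {r : ℕ} (hr : r < chevF4.nroots) (a : K) : (xr r a : ↥(chevF4.group K)) ∈ XX chevF4 4 K (vec chevF4 4 r) := by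
  rw [Subgroup.mem_subgroupOf, XV_vec hF K hr, mem_rootSubgroup_iff hF.inList]
  exact ⟨a, (coe_xr hr a)⟩

theorem mem_X {r : ℕ} (hr : r < chevF4.nroots) {y : ↥(chevF4.group K)} (hy : y ∈ XX chevF4 4 K (vec chevF4 4 r)) :
    ∃ a : K, y = xr r a := by
  rw [Subgroup.mem_subgroupOf, XV_vec hF K hr, mem_rootSubgroup_iff hF.inList] at hy
  obtain ⟨a, ha⟩ := hy
  exact ⟨a, Subtype.ext (by rw [coe_xr hr, ha])⟩

/-- the product of the letters of a commutator -/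
noncomputable def wd (l : List (ℕ × ℤ × ℕ × ℕ)) (a s : K) : ↥(chevF4.group K) :=
  (l.map fun c => xr c.1 ((c.2.1 : K) * a ^ c.2.2.1 * (-s) ^ c.2.2.2)).prod

theorem wd_cons (c : ℕ × ℤ × ℕ × ℕ) (l : List (ℕ × ℤ × ℕ × ℕ)) (a s : K) :
    (wd (c :: l) a s : ↥(chevF4.group K)) = xr c.1 ((c.2.1 : K) * a ^ c.2.2.1 * (-s) ^ c.2.2.2) * wd l a s := by
  rw [wd, List.map_cons, List.prod_cons]
  rfl

theorem coe_wd (l : List (ℕ × ℤ × ℕ × ℕ)) (hl : ∀ c ∈ l, c.1 < chevF4.nroots) (a s : K) :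
    ((wd l a s : ↥(chevF4.group K)) : GL chevF4.Idx K) =
      wordG hF.inList (l.map fun c => (c.1, (c.2.1 : K) * a ^ c.2.2.1 * (-s) ^ c.2.2.2)) := by
  induction l with
  | nil => rfl
  | cons c l ih =>
    rw [wd_cons, Subgroup.coe_mul, ih fun d hd => hl d (List.mem_cons_of_mem _ hd), List.map_cons, wordG_cons,
      coe_xr (hl c List.mem_cons_self)]

/-- **The commutator formula.** -/
theorem conj_xr {r s : ℕ} (hr : r < chevF4.nroots) (hs : s < chevF4.nroots) (h1 : s ≠ r) (h2 : s ≠ chevF4.neg r)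
    (a t : K) : (xr s t * xr r a * (xr s t)⁻¹ : ↥(chevF4.group K)) = wd (chevF4.commTerms r s) a t * xr r a := by
  have hl : ∀ c ∈ chevF4.commTerms r s, c.1 < chevF4.nroots := by
    rintro ⟨v, C, i, j⟩ hv
    exact (commTerms_rt hF.checked hv).1
  have e : ⁅xG hF.inList s t, xG hF.inList r a⁆ = wordG hF.inList (chevF4.commWord K r s (-a) (-t)) := by
    rw [← comm_xG hF hr hs h1 h2, xG_inv, xG_inv, _root_.neg_neg, _root_.neg_neg]
  have e2 : chevF4.commWord K r s (-a) (-t) =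
      (chevF4.commTerms r s).map fun c => (c.1, (c.2.1 : K) * a ^ c.2.2.1 * (-t) ^ c.2.2.2) := by
    unfold ChevalleyDatum.commWord
    rw [_root_.neg_neg]
  apply Subtype.ext
  rw [Subgroup.coe_mul, Subgroup.coe_mul, Subgroup.coe_mul, Subgroup.coe_inv, coe_wd _ hl, ← e2, ← e, coe_xr hr,
    coe_xr hs, commutatorElement_def]
  group

/-! ### the groups `Q S` -/

/-- the group generated by the root groups with numbers in `S` -/
def Q (K : Type u) [Field K] (S : Set ℕ) : Subgroup ↥(chevF4.group K) :=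
  Subgroup.closure {g | ∃ r ∈ S, ∃ a : K, g = xr r a}

theorem mem_Q {S : Set ℕ} {r : ℕ} (hr : r ∈ S) (a : K) : (xr r a : ↥(chevF4.group K)) ∈ Q K S :=
  Subgroup.subset_closure ⟨r, hr, a, rfl⟩

theorem Q_le {S : Set ℕ} {H : Subgroup ↥(chevF4.group K)} (h : ∀ r ∈ S, ∀ a : K, xr r a ∈ H) : Q K S ≤ H := by
  refine (Subgroup.closure_le _).2 ?_
  rintro _ ⟨r, hr, a, rfl⟩
  exact h r hr a

theorem Q_mono {S S' : Set ℕ} (h : ∀ r ∈ S, r ∈ S') {v : ↥(chevF4.group K)} (hv : v ∈ Q K S) : v ∈ Q K S' :=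
  (Q_le fun r hr a => mem_Q (h r hr) a : Q K S ≤ Q K S') hv

theorem conj_Q {S : Set ℕ} {H : Subgroup ↥(chevF4.group K)} {g : ↥(chevF4.group K)}
    (h : ∀ r ∈ S, ∀ a : K, g * xr r a * g⁻¹ ∈ H) {v : ↥(chevF4.group K)} (hv : v ∈ Q K S) : g * v * g⁻¹ ∈ H := by
  have h1 : Q K S ≤ H.comap (MulAut.conj g).toMonoidHom := Q_le h
  exact h1 hv

theorem Sup_eq {S : Set ℕ} {N : Set (Fin 4 → ℤ)} (hS : ∀ r ∈ S, r < chevF4.nroots)
    (h : ∀ x, x ∈ N ↔ ∃ r ∈ S, x = vec chevF4 4 r) : RGD.Sup (XX chevF4 4 K) N = Q K S := by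
  apply le_antisymm
  · refine RGD.Sup_le fun x hx => ?_
    obtain ⟨r, hr, rfl⟩ := (h x).1 hx
    intro y hy
    obtain ⟨a, rfl⟩ := mem_X (hS r hr) hy
    exact mem_Q hr a
  · refine Q_le fun r hr a => ?_
    exact RGD.le_Sup ((h _).2 ⟨r, hr, rfl⟩) (xr_mem (hS r hr) a)

theorem mem_NotJ0 {x : Fin 4 → ℤ} : x ∈ NotJ cF hF.isCartan J0 ↔ IsRoot cF hF.isCartan x ∧ 0 < x 0 := by
  constructor
  · rintro ⟨h1, -, k, hk, h2⟩
    have h3 : k = 0 := by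
      by_contra h
      exact hk h
    exact ⟨h1, h3 ▸ h2⟩
  · rintro ⟨h1, h2⟩
    exact ⟨h1, nonneg_of_pos_apply h1 h2, 0, fun h => h rfl, h2⟩

theorem mem_RootsJ0 {x : Fin 4 → ℤ} : x ∈ RootsJ cF hF.isCartan J0 ↔ IsRoot cF hF.isCartan x ∧ x 0 = 0 := by
  constructor
  · rintro ⟨h1, h2⟩
    exact ⟨h1, h2 0 fun h => h rfl⟩
  · rintro ⟨h1, h2⟩
    refine ⟨h1, fun k hk => ?_⟩
    have h3 : k = 0 := by
      by_contra h
      exact hk h
    rw [h3, h2]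

theorem VK_eq : VK K J0 = Q K {r | r ∈ IV} := by
  refine Sup_eq (fun r hr => lt_IV r hr) fun x => ?_
  rw [mem_NotJ0]
  constructor
  · rintro ⟨h1, h2⟩
    obtain ⟨r, hr, rfl⟩ := (isRoot_iff hF cF x).1 h1
    exact ⟨r, (tabV r hr).1 h2, rfl⟩
  · rintro ⟨r, hr, rfl⟩
    exact ⟨(isRoot_iff hF cF _).2 ⟨r, lt_IV r hr, rfl⟩, (tabV r (lt_IV r hr)).2 hr⟩

theorem V2_eq : RGD.Sup (XX chevF4 4 K) {x | x ∈ NotJ cF hF.isCartan {k | k ≠ 0} ∧ 2 ≤ x 0} = Q K {r | r ∈ I2} := by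
  refine Sup_eq (fun r hr => lt_IV r (I2_sub r hr)) fun x => ?_
  show (x ∈ NotJ cF hF.isCartan J0 ∧ 2 ≤ x 0) ↔ _
  rw [mem_NotJ0]
  constructor
  · rintro ⟨⟨h1, -⟩, h2⟩
    obtain ⟨r, hr, rfl⟩ := (isRoot_iff hF cF x).1 h1
    exact ⟨r, (tab2 r hr).1 h2, rfl⟩
  · rintro ⟨r, hr, rfl⟩
    have h1 := lt_IV r (I2_sub r hr)
    exact ⟨⟨(isRoot_iff hF cF _).2 ⟨r, h1, rfl⟩, (tabV r h1).2 (I2_sub r hr)⟩, (tab2 r h1).2 hr⟩

/-! ### conjugation -/

theorem wd_mem {l : List (ℕ × ℤ × ℕ × ℕ)} {S : Set ℕ} (hl : ∀ c ∈ l, c.1 ∈ S) (a t : K) : wd l a t ∈ Q K S := by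
  induction l with
  | nil => exact one_mem _
  | cons c l ih =>
    rw [wd_cons]
    exact mul_mem (mem_Q (hl c List.mem_cons_self) _) (ih fun d hd => hl d (List.mem_cons_of_mem _ hd))

/-- the sets between `I2` and `IV` give normal subgroups -/
theorem nrm {S : Set ℕ} (h2 : ∀ r ∈ I2, r ∈ S) (hS : ∀ r ∈ S, r ∈ IV) {g v : ↥(chevF4.group K)}
    (hg : g ∈ Q K {r | r ∈ IV}) (hv : v ∈ Q K S) : g * v * g⁻¹ ∈ Q K S := by
  have key : ∀ s ∈ IV, ∀ t : K, ∀ v ∈ Q K S, xr s t * v * (xr s t)⁻¹ ∈ Q K S := by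
    intro s hs t v hv
    refine conj_Q (fun r hr a => ?_) hv
    by_cases h : s = r
    · subst h
      have e : (xr s t * xr s a * (xr s t)⁻¹ : ↥(chevF4.group K)) = xr s a := by
        rw [← xr_add (lt_IV s hs), add_comm, xr_add (lt_IV s hs)]; group
      rw [e]
      exact mem_Q hr a
    · rw [conj_xr (lt_IV r (hS r hr)) (lt_IV s hs) h (neg_IV r (hS r hr) s hs)]
      exact mul_mem (wd_mem (fun c hc => h2 _ (tabVV r (hS r hr) s hs c hc)) _ _) (mem_Q hr a)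
  have h1 : Q K {r | r ∈ IV} ≤ Subgroup.normalizer (Q K S : Set ↥(chevF4.group K)) := by
    refine Q_le fun s hs t => ?_
    rw [Subgroup.mem_normalizer_iff]
    intro v
    refine ⟨key s hs t v, fun hv => ?_⟩
    have h3 := key s hs (-t) _ hv
    rw [xr_neg (lt_IV s hs)] at h3
    have e : (xr s t)⁻¹ * (xr s t * v * (xr s t)⁻¹) * ((xr s t)⁻¹)⁻¹ = v := by group
    rwa [e] at h3
  exact (Subgroup.mem_normalizer_iff.1 (h1 hg) v).1 hv

/-- the roots of `V` except `β` -/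
abbrev Nb (β : ℕ) : Set ℕ := {r | r ∈ IV ∧ r ≠ β}

theorem Nb_two {β : ℕ} (hβ : β ∈ I1) : ∀ r ∈ I2, r ∈ Nb β :=
  fun r hr => ⟨I2_sub r hr, fun h => I1_not β hβ (h ▸ hr)⟩

/-- a decomposition -/
theorem dec {S : Set ℕ} {β : ℕ} (h2 : ∀ r ∈ I2, r ∈ S \ {β}) (hS : ∀ r ∈ S, r ∈ IV) (hβ : β ∈ S)
    {u : ↥(chevF4.group K)} (hu : u ∈ Q K S) : ∃ a : K, ∃ v ∈ Q K (S \ {β}), u = xr β a * v := by
  have hβ' := hS β hβ
  unfold Q at hu
  induction hu using Subgroup.closure_induction with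
  | mem x hx =>
    obtain ⟨r, hr, a, rfl⟩ := hx
    by_cases h : r = β
    · subst h
      exact ⟨a, 1, one_mem _, (mul_one _).symm⟩
    · exact ⟨0, xr r a, mem_Q (S := S \ {β}) ⟨hr, h⟩ a, by rw [xr_zero (lt_IV β hβ'), one_mul]⟩
  | one => exact ⟨0, 1, one_mem _, by rw [xr_zero (lt_IV β hβ'), one_mul]⟩
  | mul x y _ _ ihx ihy =>
    obtain ⟨a, v, hv, rfl⟩ := ihx
    obtain ⟨b, w, hw, rfl⟩ := ihy
    refine ⟨a + b, xr β (-b) * v * (xr β (-b))⁻¹ * w, mul_mem (nrm h2 (fun r hr => hS r hr.1) (mem_Q hβ' _) hv) hw, ?_⟩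
    rw [xr_add (lt_IV β hβ'), xr_neg (lt_IV β hβ')]
    group
  | inv x _ ih =>
    obtain ⟨a, v, hv, rfl⟩ := ih
    refine ⟨-a, xr β a * v⁻¹ * (xr β a)⁻¹, nrm h2 (fun r hr => hS r hr.1) (mem_Q hβ' _) (inv_mem hv), ?_⟩
    rw [xr_neg (lt_IV β hβ')]
    group

/-! ### the reflections -/

theorem refl_xr {i : Fin 4} {r : ℕ} (hr : r < chevF4.nroots) : ∃ c : K, c ≠ 0 ∧ ∀ a,
    nc hF K i * xr r a * (nc hF K i)⁻¹ = xr (chevF4.reflectRoot i r) (c * a) := nact hF hr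

theorem refl_Q {i : Fin 4} {S S' : Set ℕ} (hS : ∀ r ∈ S, r ∈ IV) (h : ∀ r ∈ S, chevF4.reflectRoot i r ∈ S')
    {v : ↥(chevF4.group K)} (hv : v ∈ Q K S) : nc hF K i * v * (nc hF K i)⁻¹ ∈ Q K S' := by
  refine conj_Q (fun r hr a => ?_) hv
  obtain ⟨c, -, hc⟩ := refl_xr (K := K) (i := i) (lt_IV r (hS r hr))
  rw [hc]
  exact mem_Q (h r hr) _

theorem refl_Nb {i : Fin 4} (hi : i ≠ 0) {β : ℕ} (_hβ : β ∈ IV) {v : ↥(chevF4.group K)} (hv : v ∈ Q K (Nb β)) :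
    nc hF K i * v * (nc hF K i)⁻¹ ∈ Q K (Nb (chevF4.reflectRoot i β)) := by
  refine refl_Q (S := Nb β) (S' := Nb (chevF4.reflectRoot i β)) (fun r hr => hr.1)
    (fun r hr => ⟨tabR i hi r hr.1, fun h => hr.2 ?_⟩) hv
  rw [← tabR2 i hi r hr.1, h, tabR2 i hi β _hβ]

variable [Finite K]

/-- disjointness -/
theorem disj33 {a : K} (h : (xr 33 a : ↥(chevF4.group K)) ∈ Q K (Nb 33)) : a = 0 := by
  obtain ⟨p, hpc⟩ := CharP.exists K
  have : Fact p.Prime := ⟨CharP.char_is_prime K p⟩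
  have : Finite CoxeterMatrix.F₄.Group := finite_W hF cF
  have R := rgd (K := K) hF cF p
  have h33 : 33 < chevF4.nroots := by rw [nroots]; norm_num
  have e33 : vec chevF4 4 33 = sr (0 : Fin 4) := by rw [← simple0]; exact vec_simple hF 0
  have h1 : (xr 33 a : ↥(chevF4.group K)) ∈ XX chevF4 4 K (sr (0 : Fin 4)) := by
    rw [← e33]
    exact xr_mem h33 a
  have h2 : Q K (Nb 33) ≤ RGD.Sup (XX chevF4 4 K) (RGD.PosNe cF hF.isCartan 0) := by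
    refine Q_le fun r hr b => ?_
    refine RGD.le_Sup ?_ (xr_mem (lt_IV r hr.1) b)
    have h3 : vec chevF4 4 r ∈ NotJ cF hF.isCartan J0 :=
      mem_NotJ0.2 ⟨(isRoot_iff hF cF _).2 ⟨r, lt_IV r hr.1, rfl⟩, (tabV r (lt_IV r hr.1)).2 hr.1⟩
    refine ⟨h3.1, h3.2.1, fun h4 => hr.2 ?_⟩
    rw [← e33] at h4
    exact vec_inj hF (lt_IV r hr.1) h33 h4
  have h3 := eq_one_of_mem_PosNe R h1 (h2 h)
  rw [← xr_zero h33] at h3
  exact xr_inj h33 h3

theorem disj_refl {i : Fin 4} (hi : i ≠ 0) {β : ℕ} (hβ : β ∈ IV)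
    (h : ∀ a : K, (xr β a : ↥(chevF4.group K)) ∈ Q K (Nb β) → a = 0) {a : K}
    (ha : (xr (chevF4.reflectRoot i β) a : ↥(chevF4.group K)) ∈ Q K (Nb (chevF4.reflectRoot i β))) : a = 0 := by
  have h1 := refl_Nb hi (tabR i hi β hβ) ha
  obtain ⟨c, hc0, hc⟩ := refl_xr (K := K) (i := i) (lt_IV _ (tabR i hi β hβ))
  rw [hc, tabR2 i hi β hβ] at h1
  exact (mul_eq_zero.1 (h _ h1)).resolve_left hc0

/-- everything on `I1` is reached from `33` -/
theorem reach {C : ℕ → Prop} (h0 : C 33) (hC : ∀ i : Fin 4, i ≠ 0 → ∀ r ∈ I1, C r → C (chevF4.reflectRoot i r)) :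
    ∀ r ∈ I1, C r := by
  obtain ⟨e1, e2, e3, e4, e5, e6, e7⟩ := reach1
  have h1 : C 34 := e1 ▸ hC 1 (by decide) 33 (by decide) h0
  have h2 : C 35 := e2 ▸ hC 2 (by decide) 34 (by decide) h1
  have h3 : C 36 := e3 ▸ hC 3 (by decide) 35 (by decide) h2
  have h4 : C 37 := e4 ▸ hC 1 (by decide) 35 (by decide) h2
  have h5 : C 38 := e5 ▸ hC 3 (by decide) 37 (by decide) h4
  have h6 : C 39 := e6 ▸ hC 2 (by decide) 38 (by decide) h5
  have h7 : C 40 := e7 ▸ hC 1 (by decide) 39 (by decide) h6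
  intro r hr
  simp only [I1, List.mem_cons, List.not_mem_nil, or_false] at hr
  rcases hr with rfl | rfl | rfl | rfl | rfl | rfl | rfl | rfl <;> assumption

theorem disj : ∀ β ∈ I1, ∀ a : K, (xr β a : ↥(chevF4.group K)) ∈ Q K (Nb β) → a = 0 := by
  refine reach (fun a => disj33) fun i hi r hr h a ha => ?_
  exact disj_refl hi (I1_sub r hr) h ha

/-! ### the coordinates -/

open Classical in
/-- the coordinate at `β` -/
noncomputable def cf (β : ℕ) (u : ↥(chevF4.group K)) : K :=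
  if h : ∃ a : K, ∃ v ∈ Q K (Nb β), u = xr β a * v then h.choose else 0

theorem Nb_eq (β : ℕ) : ({r | r ∈ IV} : Set ℕ) \ {β} = Nb β := rfl

theorem cf_eq {β : ℕ} (hβ : β ∈ I1) (a : K) {v : ↥(chevF4.group K)} (hv : v ∈ Q K (Nb β)) : cf β (xr β a * v) = a := by
  have h : ∃ b : K, ∃ w ∈ Q K (Nb β), xr β a * v = xr β b * w := ⟨a, v, hv, rfl⟩
  have h1 : cf β (xr β a * v) = h.choose := dif_pos h
  obtain ⟨w, hw, e⟩ := h.choose_spec
  rw [h1]
  have hlt := lt_IV β (I1_sub β hβ)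
  generalize h.choose = b at e ⊢
  have h2 : (xr β (-b + a) : ↥(chevF4.group K)) = w * v⁻¹ := by
    rw [xr_add hlt, xr_neg hlt, eq_mul_inv_iff_mul_eq, mul_assoc, e, inv_mul_cancel_left]
  have h3 := disj β hβ (-b + a) (by rw [h2]; exact mul_mem hw (inv_mem hv))
  exact (neg_add_eq_zero.1 h3)

theorem cf_spec {β : ℕ} (hβ : β ∈ I1) {u : ↥(chevF4.group K)} (hu : u ∈ Q K {r | r ∈ IV}) :
    ∃ v ∈ Q K (Nb β), u = xr β (cf β u) * v := by
  obtain ⟨a, v, hv, rfl⟩ := dec (β := β) (S := {r | r ∈ IV}) (fun r hr => Nb_two hβ r hr) (fun _ h => h) (I1_sub β hβ) hu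
  exact ⟨v, hv, by rw [cf_eq hβ a hv]⟩

theorem cf_mul {β : ℕ} (hβ : β ∈ I1) {u v : ↥(chevF4.group K)} (hu : u ∈ Q K {r | r ∈ IV})
    (hv : v ∈ Q K {r | r ∈ IV}) : cf β (u * v) = cf β u + cf β v := by
  have hlt := lt_IV β (I1_sub β hβ)
  obtain ⟨m, hm, e1⟩ := cf_spec hβ hu
  obtain ⟨m', hm', e2⟩ := cf_spec hβ hv
  have e : u * v = xr β (cf β u + cf β v) * (xr β (-cf β v) * m * (xr β (-cf β v))⁻¹ * m') := by
    rw [xr_add hlt, xr_neg hlt]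
    nth_rw 1 [e1, e2]
    group
  rw [e]
  exact cf_eq hβ _ (mul_mem (nrm (Nb_two hβ) (fun r hr => hr.1) (mem_Q (I1_sub β hβ) _) hm) hm')

theorem cf_of_mem {β : ℕ} (hβ : β ∈ I1) {u : ↥(chevF4.group K)} (hu : u ∈ Q K (Nb β)) : cf β u = 0 := by
  have h1 := cf_eq hβ (0 : K) hu
  rwa [xr_zero (lt_IV β (I1_sub β hβ)), one_mul] at h1

theorem cf_one {β : ℕ} (hβ : β ∈ I1) : cf β (1 : ↥(chevF4.group K)) = 0 := cf_of_mem hβ (one_mem _)

theorem cf_inv {β : ℕ} (hβ : β ∈ I1) {u : ↥(chevF4.group K)} (hu : u ∈ Q K {r | r ∈ IV}) :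
    cf β u⁻¹ = -cf β u := by
  have h1 := cf_mul hβ (inv_mem hu) hu
  rw [inv_mul_cancel, cf_one hβ] at h1
  exact (neg_eq_of_add_eq_zero_left h1.symm).symm

theorem cf_self {β : ℕ} (hβ : β ∈ I1) (a : K) : cf β (xr β a : ↥(chevF4.group K)) = a := by
  have h1 := cf_eq hβ a (one_mem (Q K (Nb β)))
  rwa [mul_one] at h1

theorem cf_ne {β r : ℕ} (hβ : β ∈ I1) (hr : r ∈ IV) (h : r ≠ β) (a : K) : cf β (xr r a : ↥(chevF4.group K)) = 0 :=
  cf_of_mem hβ (mem_Q (S := Nb β) ⟨hr, h⟩ a)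

/-- an element all of whose coordinates vanish -/
theorem mem_two {u : ↥(chevF4.group K)} (hu : u ∈ Q K {r | r ∈ IV}) (h : ∀ β ∈ I1, cf β u = 0) :
    u ∈ Q K {r | r ∈ I2} := by
  have key : ∀ l : List ℕ, (∀ β ∈ l, β ∈ I1) → u ∈ Q K {r | r ∈ IV ∧ r ∉ l} := by
    intro l
    induction l with
    | nil =>
      intro _
      exact Q_mono (S := {r | r ∈ IV}) (S' := {r | r ∈ IV ∧ r ∉ []}) (fun r hr => ⟨hr, List.not_mem_nil⟩) hu
    | cons β l ih =>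
      intro hl
      have hβ : β ∈ I1 := hl β List.mem_cons_self
      have h1 := ih fun γ hγ => hl γ (List.mem_cons_of_mem _ hγ)
      by_cases hm : β ∈ l
      · refine Q_mono (S := {r | r ∈ IV ∧ r ∉ l}) (S' := {r | r ∈ IV ∧ r ∉ β :: l}) (fun r hr => ⟨hr.1, fun h2 => ?_⟩) h1
        rcases List.mem_cons.1 h2 with h3 | h3
        · exact hr.2 (h3 ▸ hm)
        · exact hr.2 h3
      · obtain ⟨a, v, hv, e⟩ := dec (β := β) (S := {r | r ∈ IV ∧ r ∉ l})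
          (fun r hr => ⟨⟨I2_sub r hr, fun h2 => I1_not r (hl r (List.mem_cons_of_mem _ h2)) hr⟩,
            fun h2 => I1_not β hβ (h2 ▸ hr)⟩) (fun _ h => h.1) ⟨I1_sub β hβ, hm⟩ h1
        have h3 : v ∈ Q K (Nb β) :=
          Q_mono (S := {r | r ∈ IV ∧ r ∉ l} \ {β}) (S' := Nb β) (fun r hr => ⟨hr.1.1, hr.2⟩) hv
        have h4 : cf β u = a := by rw [e]; exact cf_eq hβ a h3
        have h5 : a = 0 := by rw [← h4]; exact h β hβ
        rw [e, h5, xr_zero (lt_IV β (I1_sub β hβ)), one_mul]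
        refine Q_mono (S := {r | r ∈ IV ∧ r ∉ l} \ {β}) (S' := {r | r ∈ IV ∧ r ∉ β :: l})
          (fun r hr => ⟨hr.1.1, fun h6 => ?_⟩) hv
        rcases List.mem_cons.1 h6 with h7 | h7
        · exact hr.2 h7
        · exact hr.1.2 h7
  refine Q_mono (fun r hr => ?_) (key I1 fun _ h => h)
  exact (IV_cases r hr.1).resolve_left hr.2

end Cfsg.Agent.H930.FC
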