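import Cfsg.Agent.H520.FC.Defs

/-!
# `F₄`: the tables of the parabolic of type `B₃` (S2464, `F₄(q)`)

`IV` : the 15 roots with `0 < x 0`; `I1` : the 8 roots with `x 0 = 1`; `I2` : the 7 roots with `x 0 = 2`;
`IM` : the 18 roots of `B₃`.
-/

set_option autoImplicit false
set_option linter.unusedSectionVars false

namespace Cfsg.Agent.H930.FC

open Cfsg.Lie Cfsg.Agent.ChevalleyStructure Cfsg.Agent.ChevalleyStructure.RootVec Cfsg.Agent.Nodes.RGDChev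

/-- the roots with `0 < x 0` -/
def IV : List ℕ := [33, 34, 35, 36, 37, 38, 39, 40, 41, 42, 43, 44, 45, 46, 47]

/-- the roots with `x 0 = 1` -/
def I1 : List ℕ := [33, 34, 35, 36, 37, 38, 39, 40]

/-- the roots with `x 0 = 2` -/
def I2 : List ℕ := [41, 42, 43, 44, 45, 46, 47]

/-- the roots of `B₃` -/
def IM : List ℕ := [15, 16, 17, 18, 19, 20, 21, 22, 23, 24, 25, 26, 27, 28, 29, 30, 31, 32]

/-- the roots `γ` of `B₃` with `α₀ + γ` a root -/
def G6 : List ℕ := [27, 28, 29, 30, 31, 32]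

theorem nroots : chevF4.nroots = 48 := by decide +kernel

theorem tabV : ∀ r < chevF4.nroots, (0 < vec chevF4 4 r 0 ↔ r ∈ IV) := by decide +kernel

theorem tab1 : ∀ r < chevF4.nroots, (vec chevF4 4 r 0 = 1 ↔ r ∈ I1) := by decide +kernel

theorem tab2 : ∀ r < chevF4.nroots, (2 ≤ vec chevF4 4 r 0 ↔ r ∈ I2) := by decide +kernel

theorem tabM : ∀ r < chevF4.nroots, (vec chevF4 4 r 0 = 0 ↔ r ∈ IM) := by decide +kernel

theorem lt_IV : ∀ r ∈ IV, r < chevF4.nroots := by decide +kernel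

theorem lt_IM : ∀ r ∈ IM, r < chevF4.nroots := by decide +kernel

theorem I1_sub : ∀ r ∈ I1, r ∈ IV := by decide +kernel

theorem I2_sub : ∀ r ∈ I2, r ∈ IV := by decide +kernel

theorem I1_not : ∀ r ∈ I1, r ∉ I2 := by decide +kernel

theorem G6_sub : ∀ r ∈ G6, r ∈ IM := by decide +kernel

theorem IV_cases : ∀ r ∈ IV, r ∈ I1 ∨ r ∈ I2 := by decide +kernel

theorem simple0 : chevF4.simple (0 : Fin 4) = 33 := by decide +kernel

/-- commutators inside `V` -/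
theorem tabVV : ∀ r ∈ IV, ∀ s ∈ IV, ∀ c ∈ chevF4.commTerms r s, c.1 ∈ I2 := by decide +kernel

theorem neg_IV : ∀ r ∈ IV, ∀ s ∈ IV, s ≠ chevF4.neg r := by decide +kernel

theorem neg_IM : ∀ r ∈ IV, ∀ s ∈ IM, s ≠ r ∧ s ≠ chevF4.neg r := by decide +kernel

/-- commutators with `B₃` -/
theorem tabMV : ∀ r ∈ IV, ∀ s ∈ IM, ∀ c ∈ chevF4.commTerms r s, c.1 ∈ IV := by decide +kernel

theorem tabMV2 : ∀ r ∈ I2, ∀ s ∈ IM, ∀ c ∈ chevF4.commTerms r s, c.1 ∈ I2 := by decide +kernel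

/-- the coordinate of `γ + 7 = α₀ + γ` and the lower ones -/
theorem tabC : ∀ γ ∈ G6, ∀ r ∈ IV, ∀ β ∈ I1, β ≤ γ + 7 →
    (chevF4.commTerms r γ).filter (fun c => c.1 = β) =
      if β = γ + 7 ∧ r = 33 then [(β, (-1 : ℤ), 1, 1)] else [] := by decide +kernel

/-- the reflections -/
theorem tabR : ∀ i : Fin 4, i ≠ 0 → ∀ r ∈ IV, chevF4.reflectRoot i r ∈ IV := by decide +kernel

theorem tabR1 : ∀ i : Fin 4, i ≠ 0 → ∀ r ∈ I1, chevF4.reflectRoot i r ∈ I1 := by decide +kernel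

theorem tabR2 : ∀ i : Fin 4, i ≠ 0 → ∀ r ∈ IV, chevF4.reflectRoot i (chevF4.reflectRoot i r) = r := by decide +kernel

theorem reach1 : chevF4.reflectRoot (1 : Fin 4) 33 = 34 ∧ chevF4.reflectRoot (2 : Fin 4) 34 = 35 ∧
    chevF4.reflectRoot (3 : Fin 4) 35 = 36 ∧ chevF4.reflectRoot (1 : Fin 4) 35 = 37 ∧
    chevF4.reflectRoot (3 : Fin 4) 37 = 38 ∧ chevF4.reflectRoot (2 : Fin 4) 38 = 39 ∧
    chevF4.reflectRoot (1 : Fin 4) 39 = 40 := by decide +kernel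

theorem cart33 : chevF4.cartan (1 : Fin 4) 33 = -1 := by decide +kernel

end Cfsg.Agent.H930.FC
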